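import Groth.Agent.PnCoh.Finite.SerreVanishing
import Groth.Agent.PnCoh.Finite.HHLin
import Groth.Agent.QCoh.ProperFinite
import Groth.Agent.QCoh.OpenSub
import Groth.Agent.CTopVan.Sober
import Groth.Agent.FlatMisc.DimConstr
import Groth.Agent.KFlatLib.Scheme.Tensor
import Groth.Agent.KFlatLib.Scheme.QCohTensor
import Groth.Agent.AmpleX.Generated
import Groth.Agent.KZ.LFRes
import Groth.Agent.AlgStLib.Noetherian
import Mathlib.AlgebraicGeometry.AlgClosed.Basic

/-! Cohomology of coherent modules above a degree, from a class of modules mapping onto all of them. -/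

set_option autoImplicit false
set_option linter.style.haveILetI false
set_option backward.isDefEq.respectTransparency false
set_option backward.isDefEq.respectTransparency.types false

noncomputable section

universe u

open CategoryTheory CategoryTheory.Limits AlgebraicGeometry TopologicalSpace

namespace Groth.Agent.CohDim98

open Groth.Agent

theorem exists_dim_bound {k : Type u} [Field k] {X : Scheme.{u}} (f : X ⟶ Spec (CommRingCat.of k))
    [LocallyOfFiniteType f] [QuasiCompact f] : ∃ n : ℕ, topologicalKrullDim X ≤ (n : WithBot ℕ∞) := by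
  haveI := AlgStLib.locallyOfFinitePresentation_of_isLocallyNoetherian f
  let p : Spec (CommRingCat.of k) := IsLocalRing.closedPoint k
  obtain ⟨n, hn⟩ := FlatMisc.DimConstr.exists_dim_le f p
  have huniv : f ⁻¹' {p} = Set.univ := Set.eq_univ_of_forall fun z =>
    Subsingleton.elim (α := Spec (CommRingCat.of k)) _ _
  rw [((f.fiberHomeo p).trans ((Homeomorph.setCongr huniv).trans
    (Homeomorph.Set.univ X))).isHomeomorph.topologicalKrullDim_eq] at hn
  exact ⟨n, hn⟩

variable {X : Scheme.{u}} [AlgebraicGeometry.IsNoetherian X]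

/-- Descending induction along presentations by members of a class. -/
theorem property_of_epi {N : ℕ} {P : X.Modules → ℕ → Prop} (r : ℕ) (C : X.Modules → Prop)
    (htop : ∀ F i, N < i → P F i)
    (hstep : ∀ (S : ShortComplex X.Modules), S.ShortExact → ∀ i, P S.X₂ i → P S.X₁ (i + 1) → P S.X₃ i)
    (hC : ∀ F : X.Modules, Coh.IsCoh F → ∃ (E : X.Modules) (p : E ⟶ F), C E ∧ Coh.IsCoh E ∧ Epi p)
    (hP : ∀ E, C E → ∀ i, r < i → P E i) (F : X.Modules) (hF : Coh.IsCoh F) (i : ℕ) (hi : r < i) : P F i := by
  suffices ∀ d i, r < i → N + 1 ≤ i + d → ∀ F : X.Modules, Coh.IsCoh F → P F i from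
    this (N + 1) i hi (by omega) F hF
  intro d
  induction d with
  | zero => exact fun i _ h F _ => htop F i (by omega)
  | succ d ih =>
    intro i hi h F hF
    obtain ⟨E, p, hE, hEc, hp⟩ := hC F hF
    let S := ShortComplex.mk (kernel.ι p) p (kernel.condition p)
    have hS : S.ShortExact := { exact := ShortComplex.exact_kernel _, mono_f := inferInstance, epi_g := hp }
    exact hstep S hS i (hP E hE i hi) (ih (i + 1) (by omega) (by omega) _ (QCoh.isCoh_kernel hEc hF p))

variable {k : Type u} [Field k] [X.Over (Spec (CommRingCat.of k))]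
  [LocallyOfFiniteType (X ↘ Spec (CommRingCat.of k))] [QuasiCompact (X ↘ Spec (CommRingCat.of k))]

omit [AlgebraicGeometry.IsNoetherian X] in
theorem vanishing_top [NoetherianSpace X] {N : ℕ} (hN : topologicalKrullDim X ≤ (N : WithBot ℕ∞))
    (F : X.Modules) (i : ℕ) (hi : N < i) : Subsingleton (Coh.HH X F i) :=
  CTopVan.grothendieck_vanishing (X := X.toPresheafedSpace.carrier) N hN _ i hi

theorem subsingleton_of_class {k : Type u} [Field k] (f : X ⟶ Spec (CommRingCat.of k)) [LocallyOfFiniteType f]
    [QuasiCompact f] (r : ℕ) (C : X.Modules → Prop)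
    (hC : ∀ F : X.Modules, Coh.IsCoh F → ∃ (E : X.Modules) (p : E ⟶ F), C E ∧ Coh.IsCoh E ∧ Epi p)
    (hP : ∀ E, C E → ∀ i, r < i → Subsingleton (Coh.HH X E i))
    (F : X.Modules) (hF : Coh.IsCoh F) (i : ℕ) (hi : r < i) : Subsingleton (Coh.HH X F i) := by
  obtain ⟨N, hN⟩ := exists_dim_bound f
  exact property_of_epi (P := fun F i => Subsingleton (Coh.HH X F i)) r C
    (fun F i hi => vanishing_top hN F i hi)
    (fun S hS i h2 h1 => PnCoh.Finite.subsingleton_HH_X₃ hS i h2 h1) hC hP F hF i hi

variable (k) in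
theorem finite_of_class (r : ℕ) (C : X.Modules → Prop)
    (hC : ∀ F : X.Modules, Coh.IsCoh F → ∃ (E : X.Modules) (p : E ⟶ F), C E ∧ Coh.IsCoh E ∧ Epi p)
    (hP : ∀ E, C E → ∀ i, r < i → Module.Finite k (Coh.HH X E i))
    (F : X.Modules) (hF : Coh.IsCoh F) (i : ℕ) (hi : r < i) : Module.Finite k (Coh.HH X F i) := by
  obtain ⟨N, hN⟩ := exists_dim_bound (X ↘ Spec (CommRingCat.of k))
  exact property_of_epi (X := X) (P := fun F i => Module.Finite k (Coh.HH X F i)) r C
    (fun F i hi => by haveI := vanishing_top hN F i hi; infer_instance)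
    (fun S hS i h2 h1 => PnCoh.Finite.finite_HH_X₃ k hS i h2 h1) hC hP F hF i hi

end Groth.Agent.CohDim98
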