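import Groth.Agent.AmpleX.Generated
import Groth.Agent.CohDim98.Vanish
import Groth.Agent.KFlatLib.Scheme.Tensor
import Groth.Agent.Lib.RegEpiGen
import Groth.Prelude.Def_ClSub2
import Groth.Agent.ArSurfX.Frames
import Groth.Agent.KZ.QuasiProj

/-! Coherent modules as quotients of sums of negative powers of an ample module. -/

universe u

open CategoryTheory CategoryTheory.Limits AlgebraicGeometry TopologicalSpace Opposite MonoidalCategory
open scoped TensorProduct
open Groth.Agent.H23.PicMul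

set_option autoImplicit false
set_option backward.isDefEq.respectTransparency false
set_option backward.isDefEq.respectTransparency.types false
set_option linter.style.haveILetI false

noncomputable section

namespace Groth.Agent.CohDim98

open Groth.Agent Groth.Agent.AmpleX

variable {X : Scheme.{u}} {F M N L : X.Modules}

/- Adapted from `AmpleX.eventually_generated`, keeping the finiteness of the index. -/
theorem eventually_generated_finite [CompactSpace X] [X.IsSeparated] (hL : CohB1.IsAmple L)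
    (hq : Coh.IsQCoh F) (hft : CohB1.IsFT F) :
    ∃ n₀ : ℕ, ∀ n, n₀ ≤ n → ∃ (G : X.Modules) (_ : G ≅ CohB1.tensorMod F (CohB1.tensorPow L n))
      (ι : Type u) (_ : Finite ι) (s : ι → Γ(G, ⊤)), ProjUP.GeneratedBy G s := by
  classical
  obtain ⟨a, ha, κ, _, σ, hσ, he, hcov⟩ := exists_cover_genLocus hL
  choose e he using he
  have hgen : ∀ k, ∃ (J : ℕ) (t : Fin J → Γ(F, CohB1.genLocus _ (σ k))),
      ∀ (x : X) (hx : x ∈ CohB1.genLocus _ (σ k)), Submodule.span (X.presheaf.stalk x)
        (Set.range fun j => F.presheaf.germ (CohB1.genLocus _ (σ k)) x hx (t j)) = ⊤ := fun k => by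
    have hG := hσ k
    obtain ⟨J, t, ht⟩ := Submodule.fg_iff_exists_fin_generating_family.1
      (QCoh.finite_of_isFT hq hft hG).fg_top
    refine ⟨J, t, fun x hx => ?_⟩
    letI := QCoh.stalkAlg (X := X) hx
    letI := QCoh.stalkModule F hx
    haveI := QCoh.isScalarTower_stalk F hx
    haveI := QCoh.isLocalization_stalk' hG hx
    haveI := QCoh.isLocalizedModule_germLin hq hG hx
    have h1 : Submodule.localized' (X.presheaf.stalk x) (hG.primeIdealOf ⟨x, hx⟩).asIdeal.primeCompl
        (QCoh.germLin F hx) (Submodule.span Γ(X, CohB1.genLocus _ (σ k)) (Set.range t)) = ⊤ := by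
      rw [ht, Submodule.localized'_top]
    rw [Submodule.localized'_span, ← Set.range_comp] at h1
    exact h1
  choose J t ht using hgen
  let F' := fun r : Fin a => CohB1.tensorMod F (CohB1.tensorPow L r)
  have hF' : ∀ r, Coh.IsQCoh (F' r) := fun r => KFlatLib.isQCoh_tensor hq
    (ProjUPX.isQCoh_of_isInvertible (InvX.isInvertible_tensorPow hL.1 _))
  have hext := fun (r : Fin a) (p : Σ k, Fin (J k)) => exists_extend (hF' r)
    (InvX.isInvertible_tensorPow hL.1 a) (σ p.1) (InvX.tmul (t p.1 p.2) (powElt (e p.1) (r : ℕ)))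
  choose q hq' using hext
  let Q := Finset.univ.sup fun r => Finset.univ.sup (q r)
  refine ⟨a * (Q + 1), fun n hn => ?_⟩
  let r : Fin a := ⟨n % a, Nat.mod_lt _ ha⟩
  have hQ : Q ≤ n / a := by
    refine (Nat.le_div_iff_mul_le ha).2 (le_trans ?_ hn)
    rw [mul_comm a]
    exact Nat.mul_le_mul_right a (Nat.le_succ Q)
  choose T hT using fun p => hq' r p (n / a)
    ((Finset.le_sup (f := q r) (Finset.mem_univ p)).trans
      ((Finset.le_sup (f := fun r => Finset.univ.sup (q r)) (Finset.mem_univ r)).trans hQ))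
  obtain ⟨iso⟩ : Nonempty (CohB1.tensorMod (F' r) (CohB1.tensorPow (CohB1.tensorPow L a) (n / a)) ≅
      CohB1.tensorMod F (CohB1.tensorPow L n)) := cl_eq_iff.1 (by
    rw [cl_tensor, cl_tensor, cl_tensor, cl_tensorPow, cl_tensorPow, cl_tensorPow, cl_tensorPow,
      mul_assoc, ← pow_mul, ← pow_add, Nat.mod_add_div])
  refine ⟨_, iso, ?_⟩
  let T' : ULift.{u} (Σ k, Fin (J k)) → Γ(CohB1.tensorMod (F' r) (CohB1.tensorPow (CohB1.tensorPow L a) (n / a)), ⊤) :=
    fun p => T p.down
  refine ⟨_, inferInstance, T', fun x => ?_⟩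
  obtain ⟨k, hxk⟩ := hcov x
  have h1 := span_germ_tmul_eq_top hxk (fun j => InvX.tmul (t k j) (powElt (e k) (r : ℕ)))
    (span_germ_tmul_eq_top hxk (t k) (ht k x hxk) (isFrame_powElt (he k) _))
    (isFrame_powElt (res_genLocus_frame (σ k)) (n / a))
  refine top_le_iff.1 (h1.ge.trans (Submodule.span_le.2 ?_))
  rintro _ ⟨j, rfl⟩
  refine Submodule.subset_span ⟨⟨⟨k, j⟩⟩, ?_⟩
  show ((CohB1.tensorMod (F' r) (CohB1.tensorPow (CohB1.tensorPow L a) (n / a))).presheaf.germ ⊤ x trivial).hom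
    (T ⟨k, j⟩) = _
  exact (InvX.germ_res' le_top hxk (T ⟨k, j⟩)).symm.trans
    (congrArg (fun z => (CohB1.tensorMod (F' r) (CohB1.tensorPow (CohB1.tensorPow L a) (n / a))).presheaf.germ
      (CohB1.genLocus _ (σ k)) x hxk z) (hT ⟨k, j⟩))


theorem tensorFlip_obj (A B : X.Modules) :
    ((DCoh.tensorBi (X := X)).flip.obj B).obj A = CohB1.tensorMod A B := rfl

/-- A free module tensored with `N` is a sum of copies of `N`. -/
theorem nonempty_sigma_iso_tensor (c : ℕ) (N : X.Modules) :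
    Nonempty ((∐ fun _ : Fin c => N) ≅
      ((DCoh.tensorBi (X := X)).flip.obj N).obj (FlatMod.freeMod X c)) := by
  let T := (DCoh.tensorBi (X := X)).flip.obj N
  haveI : PreservesColimitsOfShape (Discrete (Fin c)) T := inferInstance
  obtain ⟨a⟩ := comm (Coh.structureModule X) N
  obtain ⟨b⟩ := unit N
  let e : N ≅ T.obj (Coh.structureModule X) := b.symm ≪≫ a.symm ≪≫ eqToIso (tensorFlip_obj _ _).symm
  exact ⟨Sigma.mapIso (fun _ => e) ≪≫ (PreservesCoproduct.iso T fun _ : Fin c => Coh.structureModule X).symm⟩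

/-- Finite type quasi-coherent modules are quotients of finite sums of a negative power. -/
theorem exists_epi_inverse_pow [CompactSpace X] [X.IsSeparated] (hL : CohB1.IsAmple L) (hM : ClSub.IsInverseOf M L)
    (hF : Coh.IsCoh F) (m₀ : ℕ) :
    ∃ (n : ℕ) (c : ℕ) (p : (∐ fun _ : Fin c => CohB1.tensorPow M n) ⟶ F), m₀ ≤ n ∧ Epi p := by
  obtain ⟨n₀, h⟩ := eventually_generated_finite hL hF.1 hF.2
  let n := max n₀ m₀
  obtain ⟨G, iso, ι, hι, s, hs⟩ := h n (le_max_left _ _)
  obtain ⟨c, ⟨e⟩⟩ := Finite.exists_equiv_fin ι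
  have hs' : ProjUP.GeneratedBy G (s ∘ e.symm) := fun x => by
    rw [show (fun i => (G.presheaf.germ ⊤ x trivial).hom ((s ∘ e.symm) i)) =
      (fun i => (G.presheaf.germ ⊤ x trivial).hom (s i)) ∘ e.symm from rfl, Set.range_comp, e.symm.surjective.range_eq,
      Set.image_univ]
    exact hs x
  obtain ⟨p₀, hp₀⟩ := InvX.exists_epi_freeMod hs'
  let N := CohB1.tensorPow M n
  let T := (DCoh.tensorBi (X := X)).flip.obj N
  haveI : PreservesFiniteColimits T := ⟨fun K => inferInstance⟩
  haveI : T.PreservesEpimorphisms := inferInstance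
  obtain ⟨e1⟩ := nonempty_sigma_iso_tensor c N
  obtain ⟨e2⟩ : Nonempty (CohB1.tensorMod G N ≅ F) := cl_eq_iff.1 (by
    obtain ⟨e3⟩ := hM
    rw [cl_tensor, cl_eq_iff.2 ⟨iso⟩, cl_tensor, cl_tensorPow, cl_tensorPow, mul_assoc, ← mul_pow,
      mul_comm (PicF.cl L), ← cl_tensor, cl_eq_iff.2 ⟨e3⟩, ← one_def, one_pow, mul_one])
  haveI : Epi (T.map p₀) := inferInstance
  exact ⟨n, c, e1.hom ≫ T.map p₀ ≫ ((eqToIso (tensorFlip_obj G N)) ≪≫ e2).hom, le_max_right _ _, inferInstance⟩

theorem flf_inverse_pow (hL : CohB1.IsAmple L) (hM : ClSub.IsInverseOf M L) (n : ℕ) :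
    FlatMod.IsFinLocFree (CohB1.tensorPow M n) :=
  KZ.QuasiProj.flf_of_invertible (isInvertible_tensorPow (ArSurfX.isInvertible_of_isInverseOf hL.1 hM) n)

/-- A finite sum of copies of a coherent module is coherent. -/
theorem isCoh_sigma [AlgebraicGeometry.IsNoetherian X] (c : ℕ) (E : X.Modules) (hE : Coh.IsCoh E) :
    Coh.IsCoh (∐ fun _ : Fin c => E) := by
  haveI := Abelian.hasFiniteBiproducts (C := X.Modules)
  have h := QCoh.isCoh_biproduct (fun _ : ULift.{u} (Fin c) => E) fun _ => hE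
  let e : (⨁ fun _ : ULift.{u} (Fin c) => E) ≅ ∐ fun _ : Fin c => E :=
    biproduct.whiskerEquiv (f := fun _ : ULift.{u} (Fin c) => E) (g := fun _ : Fin c => E) Equiv.ulift
      (fun _ => Iso.refl _) ≪≫ biproduct.isoCoproduct _
  exact ⟨(QCoh.isQCoh_iff_iso e).1 h.1, (QCoh.isCoh_of_epi e.hom h ((QCoh.isQCoh_iff_iso e).1 h.1)).2⟩

end Groth.Agent.CohDim98
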