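import Groth.Agent.CohDim98.Ample
import Groth.Agent.FlatMor3.AmpleCartier
import Groth.Agent.Lib.EffCompl
import Groth.Agent.RegUFD.Basic
import Groth.Agent.AmpleX.FiniteSet
import Groth.Agent.LimitsH94.LimLocFree
import Groth.Agent.KFlatLib.Scheme.TensorStalk
import Groth.Agent.Synt29.OmegaStalk
import Mathlib.AlgebraicGeometry.Properties
import Mathlib.Algebra.Category.ModuleCat.Monoidal.Closed

/-! The resolution property of regular separated Noetherian schemes. -/

universe u

open CategoryTheory CategoryTheory.Limits AlgebraicGeometry TopologicalSpace Opposite MonoidalCategory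
open scoped TensorProduct
open Groth.Agent.H23.PicMul

set_option autoImplicit false
set_option backward.isDefEq.respectTransparency false
set_option backward.isDefEq.respectTransparency.types false
set_option linter.style.haveILetI false

noncomputable section

namespace Groth.Agent.CohDim98

open Groth.Agent Groth.Agent.AmpleX

variable {X : Scheme.{u}}

/-- Quotient near the locus of a section of an invertible module. -/
theorem exists_surjOn_genLocus [CompactSpace X] [X.IsSeparated] {P Q F : X.Modules} (hP : PicF.IsInvertible P)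
    (hQ : ClSub.IsInverseOf Q P) (σ : Coh.structureModule X ⟶ P) (hσ : IsAffineOpen (CohB1.genLocus P σ))
    (hF : Coh.IsCoh F) :
    ∃ (n c : ℕ) (p : (∐ fun _ : Fin c => CohB1.tensorPow Q n) ⟶ F),
      ∀ x ∈ CohB1.genLocus P σ, Epi ((DerSch.stalkFunctor X x).map p) := by
  classical
  obtain ⟨J, t, ht⟩ := Submodule.fg_iff_exists_fin_generating_family.1
    (QCoh.finite_of_isFT hF.1 hF.2 hσ).fg_top
  choose q hq using fun j => exists_extend hF.1 hP σ (t j)
  let n := Finset.univ.sup q
  choose T hT using fun j => hq j n (Finset.le_sup (Finset.mem_univ j))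
  let G := CohB1.tensorMod F (CohB1.tensorPow P n)
  let p₀ : FlatMod.freeMod X J ⟶ G := Sigma.desc fun j => InvX.ofSect (T j)
  have hp₀ : ∀ x ∈ CohB1.genLocus P σ, Epi ((DerSch.stalkFunctor X x).map p₀) := fun x hx => by
    have hspan : Submodule.span (X.presheaf.stalk x)
        (Set.range fun j => F.presheaf.germ (CohB1.genLocus P σ) x hx (t j)) = ⊤ := by
      letI := QCoh.stalkAlg (X := X) hx
      letI := QCoh.stalkModule F hx
      haveI := QCoh.isScalarTower_stalk F hx
      haveI := QCoh.isLocalization_stalk' hσ hx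
      haveI := QCoh.isLocalizedModule_germLin hF.1 hσ hx
      have h1 : Submodule.localized' (X.presheaf.stalk x) (hσ.primeIdealOf ⟨x, hx⟩).asIdeal.primeCompl
          (QCoh.germLin F hx) (Submodule.span Γ(X, CohB1.genLocus P σ) (Set.range t)) = ⊤ := by
        rw [ht, Submodule.localized'_top]
      rw [Submodule.localized'_span, ← Set.range_comp] at h1
      exact h1
    have h2 := span_germ_tmul_eq_top hx t hspan (isFrame_powElt (res_genLocus_frame σ) n)
    rw [ModuleCat.epi_iff_surjective]
    refine LinearMap.range_eq_top.1 (top_le_iff.1 (h2.ge.trans (Submodule.span_le.2 ?_)))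
    rintro _ ⟨j, rfl⟩
    refine ⟨(FlatMod.freeMod X J).presheaf.germ ⊤ x trivial
      (InvX.one (Sigma.ι (fun _ : Fin J => Coh.structureModule X) j)), ?_⟩
    refine (DerSch.stalkFunctor_map_germ x p₀ ⊤ trivial _).trans ?_
    have e : p₀.app ⊤ (InvX.one (Sigma.ι (fun _ : Fin J => Coh.structureModule X) j)) = T j := by
      show InvX.one (Sigma.ι (fun _ : Fin J => Coh.structureModule X) j ≫ p₀) = T j
      rw [Sigma.ι_desc, InvX.one_ofSect]
    rw [e]
    exact (InvX.germ_res' le_top hx (T j)).symm.trans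
      (congrArg (fun z => G.presheaf.germ (CohB1.genLocus P σ) x hx z) (hT j))
  let N := CohB1.tensorPow Q n
  let L := (DCoh.tensorBi (X := X)).obj N
  haveI : PreservesColimitsOfShape (Discrete (Fin J)) L := inferInstance
  obtain ⟨e2⟩ : Nonempty (CohB1.tensorMod N G ≅ F) := cl_eq_iff.1 (by
    obtain ⟨e3⟩ := hQ
    rw [cl_tensor, cl_tensor, cl_tensorPow, cl_tensorPow, mul_left_comm, ← mul_pow, ← cl_tensor Q P,
      cl_eq_iff.2 ⟨e3⟩, ← one_def, one_pow, mul_one])
  obtain ⟨e1⟩ : Nonempty ((∐ fun _ : Fin J => N) ≅ L.obj (FlatMod.freeMod X J)) := by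
    obtain ⟨b⟩ := unit N
    have e0 : L.obj (Coh.structureModule X) = CohB1.tensorMod N (Coh.structureModule X) := rfl
    exact ⟨Sigma.mapIso (fun _ => b.symm ≪≫ eqToIso e0.symm) ≪≫
      (PreservesCoproduct.iso L fun _ : Fin J => Coh.structureModule X).symm⟩
  have e3 : L.obj G = CohB1.tensorMod N G := rfl
  refine ⟨n, J, e1.hom ≫ L.map p₀ ≫ (eqToIso e3 ≪≫ e2).hom, fun x hx => ?_⟩
  haveI : Epi ((DerSch.stalkFunctor X x).map p₀) := hp₀ x hx
  haveI : Epi ((DerSch.stalkFunctor X x).map (L.map p₀)) := by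
    show Epi ((L ⋙ DerSch.stalkFunctor X x).map p₀)
    rw [← NatIso.naturality_2 (KFlatLib.stalkTensorLeftIso N x) p₀]
    haveI : (tensorLeft ((DerSch.stalkFunctor X x).obj N)).IsLeftAdjoint :=
      (ihom.adjunction ((DerSch.stalkFunctor X x).obj N)).isLeftAdjoint
    haveI : (tensorLeft ((DerSch.stalkFunctor X x).obj N)).PreservesEpimorphisms :=
      Functor.preservesEpimorphisms_of_adjunction (ihom.adjunction ((DerSch.stalkFunctor X x).obj N))
    haveI : Epi ((DerSch.stalkFunctor X x ⋙ tensorLeft ((DerSch.stalkFunctor X x).obj N)).map p₀) :=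
      (tensorLeft ((DerSch.stalkFunctor X x).obj N)).map_epi ((DerSch.stalkFunctor X x).map p₀)
    infer_instance
  rw [Functor.map_comp, Functor.map_comp]
  infer_instance

variable [AlgebraicGeometry.IsNoetherian X]

theorem flf_sigma (c : ℕ) {E : X.Modules} (hE : FlatMod.IsFinLocFree E) :
    FlatMod.IsFinLocFree (∐ fun _ : Fin c => E) := by
  haveI := Abelian.hasFiniteBiproducts (C := X.Modules)
  exact LimitsH94.LM.isFinLocFree_of_iso
    (biproduct.whiskerEquiv (f := fun _ : ULift.{u} (Fin c) => E) (g := fun _ : Fin c => E) Equiv.ulift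
      (fun _ => Iso.refl _) ≪≫ biproduct.isoCoproduct _)
    (KZ.QuasiProj.flf_biproduct _ fun _ => hE)

/-- Regular integral separated Noetherian schemes have the resolution property. -/
theorem hasEnoughLocFree_of_regular [X.IsSeparated] [IsIntegral X]
    (hreg : ∀ x : X, IsRegularLocalRing (X.presheaf.stalk x)) : KRR.HasEnoughLocFree X := by
  classical
  intro F hF
  have hloc : ∀ x : X, ∃ (P Q : X.Modules) (σ : Coh.structureModule X ⟶ P), PicF.IsInvertible P ∧
      PicF.IsInvertible Q ∧ ClSub.IsInverseOf Q P ∧ x ∈ CohB1.genLocus P σ ∧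
      IsAffineOpen (CohB1.genLocus P σ) := fun x => by
    obtain ⟨U, hU, hxU, -⟩ := exists_isAffineOpen_mem_and_subset (x := x) (U := ⊤) trivial
    obtain ⟨D, hD, hsupp⟩ := EffCompl.exists_effCartier_compl X (fun V W hV hW => hV.inf hW) U hU
      (U.2.dense ⟨x, hxU⟩) (fun y _ => @RegUFD.ufd _ _ (hreg y))
    obtain ⟨P, s, hP, hs⟩ := FlatMor3.exists_canonical_section hD
    obtain ⟨Q, hQ, hQP⟩ := ArSurfX.exists_isInverseOf hP
    have hl : CohB1.genLocus P (InvX.ofSect s) = U := by
      rw [AmpleX.genLocus_eq_locus, InvX.one_ofSect, hs]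
      refine TopologicalSpace.Opens.ext ?_
      show ((D.support : Set X))ᶜ = U
      rw [hsupp, compl_compl]
    exact ⟨P, Q, InvX.ofSect s, hP, hQ, hQP, hl.symm ▸ hxU, hl.symm ▸ hU⟩
  choose P Q σ hP hQ hQP hxσ hσ using hloc
  choose n c p hp using fun x => exists_surjOn_genLocus (hP x) (hQP x) (σ x) (hσ x) hF
  obtain ⟨S, hS⟩ := isCompact_univ.elim_finite_subcover (fun x => (CohB1.genLocus (P x) (σ x) : Set X))
    (fun x => (CohB1.genLocus (P x) (σ x)).2) (fun x _ => Set.mem_iUnion.2 ⟨x, hxσ x⟩)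
  haveI := Abelian.hasFiniteBiproducts (C := X.Modules)
  refine ⟨⨁ fun x : S => ∐ fun _ : Fin (c x) => CohB1.tensorPow (Q x) (n x), biproduct.desc fun x => p x,
    KZ.QuasiProj.flf_biproduct _ fun x => flf_sigma _ (KZ.QuasiProj.flf_of_invertible (isInvertible_tensorPow (hQ x) _)),
    (Synt29.OmegaStalk.epi_iff_stalk _).2 fun y => ?_⟩
  obtain ⟨x, hxS, hy⟩ := Set.mem_iUnion₂.1 (hS (Set.mem_univ y))
  haveI := hp x y hy
  refine (ModuleCat.epi_iff_surjective _).1 ?_
  haveI : Epi ((DerSch.stalkFunctor X y).map (biproduct.ι (fun x : S => ∐ fun _ : Fin (c x) => CohB1.tensorPow (Q x) (n x)) ⟨x, hxS⟩) ≫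
      (DerSch.stalkFunctor X y).map (biproduct.desc fun x : S => p x)) := by
    rw [← Functor.map_comp, biproduct.ι_desc]
    infer_instance
  exact epi_of_epi ((DerSch.stalkFunctor X y).map (biproduct.ι _ ⟨x, hxS⟩)) _

end Groth.Agent.CohDim98
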